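import Cfsg.Agent.EqLemmas

/-!
# The Baer trick and averaging over a coprime group of automorphisms

* `baerMul`, `BaerData`: in a group of class two where `h` satisfies `z ^ (2 h) = z` on commutators,
  `x y ⁅y, x⁆ ^ h` is an abelian group law with the same powers and automorphisms.
* `exists_fixed_outside`: if `Q` acts coprimely and nontrivially on a class two group of odd order, a
  `p`-group permuting the `Q`-action fixes an element not fixed by `Q`.
* `mem_commutator_of_fixed`: for coprime `P = [P, A]` the fixed points of `A` lie in `[P, P]`.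
-/

set_option autoImplicit false

namespace Cfsg.Agent.BaerTrick

open scoped commutatorElement

variable {L : Type*} [Group L]

section
variable (hc : ∀ x y : L, ⁅x, y⁆ ∈ Subgroup.center L)
include hc

theorem commutator_mul_left (x x' y : L) : ⁅x * x', y⁆ = ⁅x, y⁆ * ⁅x', y⁆ := by
  have h := Subgroup.mem_center_iff.mp (hc x' y)
  calc ⁅x * x', y⁆ = x * ⁅x', y⁆ * (y * x⁻¹ * y⁻¹) := by simp only [commutatorElement_def]; group
    _ = ⁅x', y⁆ * x * (y * x⁻¹ * y⁻¹) := by rw [h x]
    _ = ⁅x', y⁆ * ⁅x, y⁆ := by simp only [commutatorElement_def]; group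
    _ = _ := (h _).symm

theorem commutator_mul_right (x y y' : L) : ⁅x, y * y'⁆ = ⁅x, y⁆ * ⁅x, y'⁆ := by
  rw [← commutatorElement_inv, commutator_mul_left hc, mul_inv_rev, commutatorElement_inv,
    commutatorElement_inv]
  exact Subgroup.mem_center_iff.mp (hc x y) _

theorem commutator_center_left {z : L} (hz : z ∈ Subgroup.center L) (x : L) : ⁅z, x⁆ = 1 :=
  commutatorElement_eq_one_iff_mul_comm.mpr (Subgroup.mem_center_iff.mp hz x).symm

omit hc in
theorem commutator_center_right {z : L} (hz : z ∈ Subgroup.center L) (x : L) : ⁅x, z⁆ = 1 :=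
  commutatorElement_eq_one_iff_mul_comm.mpr (Subgroup.mem_center_iff.mp hz x)

end

/-- The Baer correction. -/
def corr (h : ℕ) (x y : L) : L := ⁅y, x⁆ ^ h

/-- The Baer product. -/
def baerMul (h : ℕ) (x y : L) : L := x * y * corr h x y

theorem map_baerMul (h : ℕ) {M : Type*} [Group M] (φ : L →* M) (x y : L) :
    φ (baerMul h x y) = baerMul h (φ x) (φ y) := by
  simp [baerMul, corr, map_commutatorElement]

/-- The data making the Baer product a commutative group law. -/
structure BaerData (L : Type*) [Group L] where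
  h : ℕ
  central : ∀ x y : L, ⁅x, y⁆ ∈ Subgroup.center L
  sqroot : ∀ x y : L, ⁅x, y⁆ ^ (2 * h) = ⁅x, y⁆

variable (D : BaerData L)

theorem corr_mem (x y : L) : corr D.h x y ∈ Subgroup.center L :=
  Subgroup.pow_mem _ (D.central y x) _

theorem baer_comm (x y : L) : baerMul D.h x y = baerMul D.h y x := by
  set c := ⁅y, x⁆ with hc
  have hz : ∀ g, g * c = c * g := fun g => Subgroup.mem_center_iff.mp (D.central y x) g
  have h1 : y * x = x * y * c := by
    rw [hz, hc, commutatorElement_def]; group
  simp only [baerMul, corr]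
  rw [← commutatorElement_inv y x, ← hc, h1, mul_assoc (x * y) c]
  congr 1
  rw [inv_pow, eq_mul_inv_iff_mul_eq, ← pow_add, ← two_mul]
  exact D.sqroot y x

theorem corr_mul_left (x x' y : L) : corr D.h (x * x') y = corr D.h x y * corr D.h x' y := by
  simp only [corr, commutator_mul_right D.central]
  exact (show Commute ⁅y, x⁆ ⁅y, x'⁆ from Subgroup.mem_center_iff.mp (D.central y x') _).mul_pow _

theorem corr_mul_right (x y y' : L) : corr D.h x (y * y') = corr D.h x y * corr D.h x y' := by
  simp only [corr, commutator_mul_left D.central]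
  exact (show Commute ⁅y, x⁆ ⁅y', x⁆ from Subgroup.mem_center_iff.mp (D.central y' x) _).mul_pow _

theorem corr_central_left {z : L} (hz : z ∈ Subgroup.center L) (x : L) : corr D.h z x = 1 := by
  rw [corr, commutator_center_right hz, one_pow]

theorem corr_central_right {z : L} (hz : z ∈ Subgroup.center L) (x : L) : corr D.h x z = 1 := by
  rw [corr, commutator_center_left D.central hz, one_pow]

theorem baer_assoc (x y z : L) :
    baerMul D.h (baerMul D.h x y) z = baerMul D.h x (baerMul D.h y z) := by
  simp only [baerMul]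
  rw [corr_mul_left, corr_mul_left, corr_central_left D (corr_mem D x y), mul_one,
    corr_mul_right D x (y * z), corr_central_right D (corr_mem D y z), mul_one, corr_mul_right]
  have e1 := Subgroup.mem_center_iff.mp (corr_mem D x y)
  calc x * y * corr D.h x y * z * (corr D.h x z * corr D.h y z)
      = x * y * (corr D.h x y * z) * (corr D.h x z * corr D.h y z) := by group
    _ = x * y * (z * corr D.h x y) * (corr D.h x z * corr D.h y z) := by rw [e1 z]
    _ = x * (y * z) * (corr D.h x y * corr D.h x z * corr D.h y z) := by group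
    _ = x * (y * z) * (corr D.h y z * (corr D.h x y * corr D.h x z)) := by
      rw [(Subgroup.mem_center_iff.mp (corr_mem D y z) _)]
    _ = x * (y * z * corr D.h y z) * (corr D.h x y * corr D.h x z) := by group

theorem corr_self_inv (x : L) : corr D.h x⁻¹ x = 1 := by
  rw [corr, show ⁅x, x⁻¹⁆ = 1 by simp [commutatorElement_def], one_pow]

/-- The abelian group attached to `D`. -/
def BaerGroup (_ : BaerData L) : Type _ := L

/-- Identity map. -/
def toBaer (D : BaerData L) : L ≃ BaerGroup D := Equiv.refl L

noncomputable instance instCommGroupBaerGroup (D : BaerData L) : CommGroup (BaerGroup D) where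
  mul x y := toBaer D (baerMul D.h ((toBaer D).symm x) ((toBaer D).symm y))
  mul_assoc x y z := baer_assoc D _ _ _
  one := toBaer D 1
  one_mul x := by
    change baerMul D.h 1 ((toBaer D).symm x) = _
    rw [baerMul, corr_central_left D (Subgroup.one_mem _), one_mul, mul_one]
    rfl
  mul_one x := by
    change baerMul D.h ((toBaer D).symm x) 1 = _
    rw [baerMul, corr_central_right D (Subgroup.one_mem _), mul_one, mul_one]
    rfl
  inv x := toBaer D ((toBaer D).symm x)⁻¹
  inv_mul_cancel x := by
    change baerMul D.h ((toBaer D).symm x)⁻¹ ((toBaer D).symm x) = _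
    rw [baerMul, corr_self_inv, inv_mul_cancel, one_mul]
    rfl
  mul_comm x y := baer_comm D _ _

theorem toBaer_pow (x : L) : ∀ n : ℕ, toBaer D (x ^ n) = (toBaer D x) ^ n
  | 0 => by simp only [pow_zero]; rfl
  | n + 1 => by
    rw [pow_succ (toBaer D x), ← toBaer_pow x n]
    change x ^ (n + 1) = baerMul D.h (x ^ n) x
    rw [baerMul, corr, show ⁅x, x ^ n⁆ = 1 from
      commutatorElement_eq_one_iff_mul_comm.mpr (Commute.self_pow x n), one_pow, mul_one, pow_succ]

/-- An automorphism of the group is one of the Baer group. -/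
def baerAut : MulAut L →* MulAut (BaerGroup D) where
  toFun f :=
    { toFun := fun x => toBaer D (f ((toBaer D).symm x))
      invFun := fun x => toBaer D (f.symm ((toBaer D).symm x))
      left_inv := fun x => f.symm_apply_apply x
      right_inv := fun x => f.apply_symm_apply x
      map_mul' := fun x y => map_baerMul D.h f.toMonoidHom _ _ }
  map_one' := rfl
  map_mul' _ _ := rfl

/-- In a class two group of odd order, a `p`-group of automorphisms normalising a coprime
nontrivial group of automorphisms has a fixed point which the latter moves. -/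
theorem exists_fixed_outside [Finite L] {p : ℕ} [Fact p.Prime] (hL : IsPGroup p L)
    {P Q : Type*} [Group P] [Group Q] [Finite Q] (hP : IsPGroup p P) (hQ : (Nat.card Q).Coprime p)
    (hc : ∀ x y : L, ⁅x, y⁆ ∈ Subgroup.center L) (hp : p ≠ 2)
    (α : P →* MulAut L) (β : Q →* MulAut L) (θ : P → Q ≃ Q)
    (hθ : ∀ g a x, α g (β a x) = β (θ g a) (α g x))
    (hne : ∃ a x, β a x ≠ x) : ∃ x, (∀ g, α g x = x) ∧ ∃ a, β a x ≠ x := by
  classical
  obtain ⟨n, hn⟩ := IsPGroup.iff_card.mp hL
  have hodd : ¬ 2 ∣ p ^ n := fun h =>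
    hp ((Nat.prime_dvd_prime_iff_eq Nat.prime_two Fact.out).mp (Nat.prime_two.dvd_of_dvd_pow h)).symm
  let D : BaerData L :=
    { h := (p ^ n + 1) / 2
      central := hc
      sqroot := fun x y => by
        rw [show 2 * ((p ^ n + 1) / 2) = p ^ n + 1 by omega, pow_succ, ← hn, pow_card_eq_one', one_mul] }
  let e := toBaer D
  haveI : Finite (BaerGroup D) := Finite.of_equiv L e
  haveI : Fintype Q := Fintype.ofFinite Q
  let N : BaerGroup D →* BaerGroup D := ∏ a : Q, (baerAut D (β a)).toMonoidHom
  have hN : ∀ v, N v = ∏ a : Q, baerAut D (β a) v := fun v => MonoidHom.finsetProd_apply _ _ _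
  have hfix : ∀ v, (∀ a, baerAut D (β a) v = v) → N v = v ^ Nat.card Q := fun v hv => by
    rw [hN, Finset.prod_congr rfl fun a _ => hv a, Finset.prod_const, Finset.card_univ, Nat.card_eq_fintype_card]
  have hNfix : ∀ b v, baerAut D (β b) (N v) = N v := fun b v => by
    rw [hN, map_prod]
    exact Fintype.prod_equiv (Equiv.mulLeft b) _ _ fun a => by
      change baerAut D (β b) (baerAut D (β a) v) = baerAut D (β (b * a)) v
      rw [map_mul, map_mul]; rfl
  have hker : N.ker ≠ ⊥ := fun h => by
    obtain ⟨a, x, hax⟩ := hne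
    obtain ⟨w, hw⟩ := (Finite.injective_iff_surjective.mp ((MonoidHom.ker_eq_bot_iff N).mp h)) (e x)
    exact hax (e.injective (by
      have := hNfix a w
      rw [hw] at this
      exact this))
  letI : MulAction P N.ker :=
    { smul := fun g v => ⟨baerAut D (α g) v, by
        rw [MonoidHom.mem_ker, hN]
        have hv : N (v : BaerGroup D) = 1 := MonoidHom.mem_ker.mp v.2
        rw [hN] at hv
        calc ∏ a : Q, baerAut D (β a) (baerAut D (α g) (v : BaerGroup D))
            = ∏ a : Q, baerAut D (α g) (baerAut D (β a) (v : BaerGroup D)) :=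
              (Fintype.prod_equiv (θ g) _ _ fun a => by
                exact congrArg e (hθ g a (e.symm (v : BaerGroup D)))).symm
          _ = 1 := by rw [← map_prod, hv, map_one]⟩
      one_smul := fun v => Subtype.ext (by
        change baerAut D (α 1) (v : BaerGroup D) = v
        rw [map_one, map_one]; rfl)
      mul_smul := fun g g' v => Subtype.ext (by
        change baerAut D (α (g * g')) (v : BaerGroup D) = baerAut D (α g) (baerAut D (α g') v)
        rw [map_mul, map_mul]; rfl) }
  have hcard : Nat.card (BaerGroup D) = p ^ n := (Nat.card_congr e.symm).trans hn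
  have hpK : p ∣ Nat.card N.ker := by
    obtain ⟨m, -, hm⟩ := (Nat.dvd_prime_pow (Fact.out : p.Prime)).mp (hcard ▸ Subgroup.card_subgroup_dvd_card N.ker)
    rcases m with _ | m
    · rw [pow_zero, Subgroup.card_eq_one] at hm; exact absurd hm hker
    · rw [hm, pow_succ]; exact dvd_mul_left _ _
  have h1 : (1 : N.ker) ∈ MulAction.fixedPoints P N.ker := fun g => Subtype.ext (map_one (baerAut D (α g)))
  obtain ⟨v, hv, hv1⟩ := hP.exists_fixed_point_of_prime_dvd_card_of_fixed_point N.ker hpK h1
  refine ⟨e.symm (v : BaerGroup D), fun g => congrArg Subtype.val (hv g), ?_⟩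
  by_contra hall
  push Not at hall
  apply hv1
  have h2 := hfix v hall
  rw [MonoidHom.mem_ker.mp v.2] at h2
  have h3 : orderOf (v : BaerGroup D) = 1 :=
    Nat.eq_one_of_dvd_coprimes (hQ.pow_right n) (orderOf_dvd_of_pow_eq_one h2.symm)
      (hcard ▸ orderOf_dvd_natCard _)
  exact (Subtype.ext (orderOf_eq_one_iff.mp h3)).symm

/-- If `P = [P, A]` with `|A|` prime to `|P|` then the fixed points of `A` lie in `[P, P]`; more
generally every hom to an abelian group kills them. -/
theorem map_eq_one_of_fixed {G M : Type*} [Group G] [Finite G] [CommGroup M] {A P : Subgroup G}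
    (hAP : A ≤ Subgroup.normalizer (P : Set G)) (hcop : (Nat.card A).Coprime (Nat.card P))
    (hgen : ⁅P, A⁆ = P) (ψ : P →* M) {x : P} (hx : (x : G) ∈ Subgroup.centralizer (A : Set G)) :
    ψ x = 1 := by
  classical
  haveI : Fintype A := Fintype.ofFinite A
  let c : A →* MulAut P := P.normalizerMonoidHom.comp (Subgroup.inclusion hAP)
  let N : P →* M := ∏ a : A, ψ.comp (c a).toMonoidHom
  have hN : ∀ y, N y = ∏ a : A, ψ (c a y) := fun y => MonoidHom.finsetProd_apply _ _ _
  have hinv : ∀ b y, N (c b y) = N y := fun b y => by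
    rw [hN, hN]
    exact Fintype.prod_equiv (Equiv.mulRight b) _ _ fun a => by simp [map_mul]
  have hle : ⁅P, A⁆ ≤ N.ker.map P.subtype := Subgroup.commutator_le.mpr fun y hy a ha => by
    refine ⟨⟨y, hy⟩ * c ⟨a, ha⟩ ⟨y, hy⟩⁻¹, ?_, ?_⟩
    · rw [SetLike.mem_coe, MonoidHom.mem_ker, map_mul, hinv, ← map_mul, mul_inv_cancel, map_one]
    · simp [c, commutatorElement_def, mul_assoc]
  have h1 : N x = 1 := by
    obtain ⟨y, hy, hyx⟩ := hle (hgen.ge x.2)
    rw [show x = y from Subtype.ext hyx.symm]
    exact MonoidHom.mem_ker.mp hy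
  have h2 : N x = ψ x ^ Nat.card A := by
    rw [hN, Finset.prod_congr rfl fun a _ => show ψ (c a x) = ψ x from congrArg ψ (Subtype.ext (by
      change (a : G) * x * (a : G)⁻¹ = x
      rw [hx a a.2, mul_inv_cancel_right])), Finset.prod_const, Finset.card_univ, Nat.card_eq_fintype_card]
  exact orderOf_eq_one_iff.mp (Nat.eq_one_of_dvd_coprimes hcop (orderOf_dvd_of_pow_eq_one (h2.symm.trans h1))
    ((orderOf_map_dvd ψ x).trans (orderOf_dvd_natCard x)))

theorem mem_commutator_of_fixed {G : Type*} [Group G] [Finite G] {A P : Subgroup G}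
    (hAP : A ≤ Subgroup.normalizer (P : Set G)) (hcop : (Nat.card A).Coprime (Nat.card P))
    (hgen : ⁅P, A⁆ = P) {x : P} (hx : (x : G) ∈ Subgroup.centralizer (A : Set G)) :
    x ∈ _root_.commutator P := by
  have h := map_eq_one_of_fixed hAP hcop hgen Abelianization.of hx
  exact (QuotientGroup.eq_one_iff x).mp h

end Cfsg.Agent.BaerTrick
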